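import Cfsg.Agent.H484.RatB0.Witt

/-!
# The rows of S4891 for the orthogonal groups of odd dimension and of minus type, `p ∣ q - 1` (helper484)
-/

set_option autoImplicit false
set_option linter.unusedSectionVars false

namespace Cfsg.Agent.H484.RatB0

open Cfsg
open Cfsg.Agent.Nodes.WittAll Cfsg.Agent.Nodes.WittInst
open Cfsg.Agent.TitsThree Cfsg.Agent.TitsThree.Siegel Cfsg.Agent.TitsThree.SiegelGen
  Cfsg.Agent.TitsThree.WittFrame Cfsg.Agent.TitsThree.WBridge Cfsg.Agent.TitsThree.WittWeyl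
  Cfsg.Agent.TitsThree.FrameCN
open QuadraticMap
open Cfsg.Agent.LieClassical Cfsg.Agent.LieClassical.OrthCore Cfsg.Agent.LieClassical.OrthTrans
open Cfsg.Agent.LieClassical.OrthSimple Cfsg.Agent.LieClassical.OrthFinite
open Cfsg.Agent.LieClassical.OrthForms
open Cfsg.Agent.TitsThree.KSideO Cfsg.Agent.TitsThree.StdData
open Cfsg.Agent.H145.BR (RowInt)

/-- an element of order `p` of the field -/
theorem exists_elt {F : Type*} [Field F] [Fintype F] {p : ℕ} [hp : Fact p.Prime] (hp2 : p ≠ 2)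
    (hd : p ∣ Fintype.card F - 1) : ∃ t : F, t ≠ 0 ∧ t ^ p ^ 1 = 1 ∧ t ^ 2 ≠ 1 := by
  classical
  have h1 : p ∣ Nat.card Fˣ := by
    rw [Nat.card_eq_fintype_card, Fintype.card_units]
    exact hd
  obtain ⟨u, hu⟩ := exists_prime_orderOf_dvd_card' p h1
  refine ⟨u, u.ne_zero, ?_, fun h => ?_⟩
  · rw [pow_one, ← Units.val_pow_eq_pow_val, ← hu, pow_orderOf_eq_one, Units.val_one]
  · have h2 : u ^ 2 = 1 := Units.ext (by rw [Units.val_pow_eq_pow_val, h, Units.val_one])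
    have h3 := orderOf_dvd_of_pow_eq_one h2
    rw [hu] at h3
    exact hp2 ((Nat.prime_dvd_prime_iff_eq hp.out Nat.prime_two).1 h3)

/-- `p` is not the characteristic -/
theorem ne_char {F : Type*} [Field F] [Fintype F] {p : ℕ} [hp : Fact p.Prime] (hd : p ∣ Fintype.card F - 1)
    {r : ℕ} [CharP F r] : p ≠ r := by
  rintro rfl
  have h1 : ((Fintype.card F : ℕ) : F) = 0 := Nat.cast_card_eq_zero F
  have h2 : p ∣ Fintype.card F := (CharP.cast_eq_zero_iff F p _).1 h1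
  have h3 := Fintype.one_lt_card (α := F)
  have h4 : p ∣ 1 := by
    have := (Nat.dvd_sub h2 hd)
    rwa [show Fintype.card F - (Fintype.card F - 1) = 1 by omega] at this
  exact hp.out.one_lt.ne' (Nat.dvd_one.1 h4)

theorem two_ne {F : Type*} [Field F] [Fintype F] (ho : Odd (Fintype.card F)) : (2 : F) ≠ 0 := by
  intro h2
  have h3 : CharP F 2 := CharTwo.of_one_ne_zero_of_two_eq_zero one_ne_zero h2
  have h4 : 2 ∣ Fintype.card F := (CharP.cast_eq_zero_iff F 2 _).1 (Nat.cast_card_eq_zero F)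
  have := Nat.not_even_iff_odd.2 ho
  exact this (even_iff_two_dvd.2 h4)

variable {p : ℕ} [hp : Fact p.Prime]

/-- **`PΩ_{2m+1}(q)`**, `p ∣ q - 1` -/
theorem rowInt_oodd (hp2 : p ≠ 2) {F : Type} [Field F] [Fintype F] {m : ℕ} (hm : 2 ≤ m) (ho : Odd (Fintype.card F))
    (hd : p ∣ Fintype.card F - 1) : RowInt p (POmega F (quadFormOdd m F)) := by
  classical
  obtain ⟨r, hr⟩ := CharP.exists F
  have hr' : Fact r.Prime := ⟨CharP.char_is_prime F r⟩
  have h2 := two_ne ho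
  obtain ⟨t, ht0, ht, ht2⟩ := exists_elt hp2 hd
  rw [← coe_oddForm]
  have hG : Good (oddForm m F) := by
    apply good_of_finite (nondeg_oddForm m F h2)
    rw [Module.finrank_fintype_fun_eq_card, Fintype.card_sum, Fintype.card_sum, Fintype.card_fin,
      Fintype.card_unit]
    omega
  have hp' : ((embOdd m F).ngt ⟨1, -1 ^ 2, rfl⟩).c ≠ 0 := by
    change (1 : F)⁻¹ * (-1 ^ 2) ≠ 0
    simp
  exact rowInt_of_model (model (wodd m F) hG ⟨_, hp'⟩) (AmbT.of_amb (amb_O_of_two _ h2) r) hp' hm hp2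
    (ne_char hd) ht0 ht ht2 (by rwa [pow_two] at ht2)

/-- **`PΩ⁻_{2m+2}(q)`**, `p ∣ q - 1` -/
theorem rowInt_ominus' (hp2 : p ≠ 2) {F : Type} [Field F] [Fintype F] (a b : F)
    (hab : ∀ z₁ z₂ : F, z₁ ^ 2 + a * z₁ * z₂ + b * z₂ ^ 2 = 0 → z₁ = 0 ∧ z₂ = 0) {m : ℕ} (hm : 2 ≤ m)
    (hd : p ∣ Fintype.card F - 1) : RowInt p (POmega F (quadFormMinus m F a b)) := by
  classical
  obtain ⟨r, hr⟩ := CharP.exists F
  have hr' : Fact r.Prime := ⟨CharP.char_is_prime F r⟩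
  obtain ⟨t, ht0, ht, ht2⟩ := exists_elt hp2 hd
  rw [← coe_minusForm]
  have hG : Good (minusForm m F a b) := by
    apply good_of_finite (nondeg_minusForm m F a b hab)
    rw [Module.finrank_fintype_fun_eq_card, Fintype.card_sum, Fintype.card_sum, Fintype.card_fin,
      Fintype.card_fin]
    omega
  have hp' : ((embMinus m F a b hab).ngt ⟨(1, 0), -nf a b (1, 0), rfl⟩).c ≠ 0 := by
    change (1 : F)⁻¹ * (-nf a b (1, 0)) ≠ 0
    simp [nf]
  have hA : AmbT (toFrame (wminus m F a b hab)) r (E (minusForm m F a b)) := by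
    by_cases h2 : (2 : F) = 0
    · have hp2 : r = 2 := by
        have h3 : CharP F 2 := CharTwo.of_one_ne_zero_of_two_eq_zero one_ne_zero h2
        exact CharP.eq F ‹CharP F r› h3
      subst hp2
      exact ambT_O _ fun g hg hg2 hb => fixp_minus a b hab h2 hm hG hg hg2 hb
    · exact AmbT.of_amb (amb_O_of_two _ h2) r
  exact rowInt_of_model (model (wminus m F a b hab) hG ⟨_, hp'⟩) hA hp' hm hp2
    (ne_char hd) ht0 ht ht2 (by rwa [pow_two] at ht2)

/-- **`PΩ⁻_{2m}(q)`**, `p ∣ q - 1` -/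
theorem rowInt_ominus (hp2 : p ≠ 2) {F : Type} [Field F] [Fintype F] (a b : F)
    (hab : ∀ z₁ z₂ : F, z₁ ^ 2 + a * z₁ * z₂ + b * z₂ ^ 2 = 0 → z₁ = 0 ∧ z₂ = 0) {m : ℕ} (hm : 4 ≤ m)
    (hd : p ∣ Fintype.card F - 1) : RowInt p (POmega F (quadFormMinus (m - 1) F a b)) :=
  rowInt_ominus' hp2 a b hab (by omega) hd

end Cfsg.Agent.H484.RatB0
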