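import Cfsg.Agent.H116.RatB0.RowRgd
import Cfsg.Agent.H519.Dl.WittTor

/-!
# The rows of S4891 for the models of Witt frames (helper484)

* `rowInt_of_model` : `K` a model of a Witt frame of index `n ≥ 2`, `t` an element of `p`-power order of the field with
  `t² ≠ 1`, `t σ(t) ≠ 1`, `p` odd: `RowInt p K`.
-/

set_option autoImplicit false
set_option linter.unusedSectionVars false

namespace Cfsg.Agent.H484.RatB0

open Cfsg
open CoxeterSystem Cfsg.Agent.ChevalleyStructure.CoxeterGeom Cfsg.Agent.Tits.Roots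
  Cfsg.Agent.Nodes.Comb Cfsg.Agent.Nodes.Reps Cfsg.Agent.Nodes.BNOf
  Cfsg.Agent.Nodes.RGDLib Cfsg.Agent.Nodes.TypeC
open Cfsg.Agent.Nodes Cfsg.Agent.Nodes.WittAll Cfsg.Agent.Nodes.WittU Cfsg.Agent.Nodes.WittInst
  Cfsg.Agent.Nodes.WittRoot
  Cfsg.Agent.TitsThree Cfsg.Agent.TitsThree.Siegel Cfsg.Agent.TitsThree.SiegelGen
  Cfsg.Agent.TitsThree.WittFrame Cfsg.Agent.TitsThree.WBridge Cfsg.Agent.TitsThree.WittWeyl
  Cfsg.Agent.TitsThree.FrameCN Cfsg.Agent.TitsThree.LineBorel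
open Cfsg.Agent.Nodes.WittRGD (Tor mem_Tor nn nn_mem_sup rg_sr rg_neg_sr mono_nn b_ne_zero not_prop)
open Cfsg.Agent.Omega.ML.Ex.Lie2.SemiDat Cfsg.Agent.H742
open Cfsg.Agent.H519.Dl.WittTor
open Cfsg.Agent.H145.BR (RowInt)

variable {F : Type*} [Field F] {V : Type*} [AddCommGroup V] [Module F V] {H : HForm F V} {n : ℕ}
  {Fr : Frame H (Fin n)}

/-! ### the eigenvalues of the diagonal elements -/

variable (H) in
/-- eigenvalues of `dX x y t` -/
noncomputable def ch (x y : Fin n × Bool) (t : F) (z : Fin n × Bool) : F :=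
  if z = x then t else if z = neg y then t⁻¹ else if z = y then H.σ t else if z = neg x then (H.σ t)⁻¹ else 1

theorem fst_eq {a b : Fin n × Bool} (h : a.1 = b.1) : a = b ∨ a = neg b := WittRGD.eq_or_ng h

theorem dX_ch {x y : Fin n × Bool} (h : x.1 ≠ y.1) {t : F} (ht : t ≠ 0) (z : Fin n × Bool) :
    dX Fr x y t (Fr.b z) = ch H x y t z • Fr.b z := by
  unfold ch
  split_ifs with h1 h2 h3 h4
  · rw [h1]; exact dX_x h ht
  · rw [h2]; exact dX_neg_y h ht
  · rw [h3]; exact dX_y h ht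
  · rw [h4]; exact dX_neg_x h ht
  · rw [one_smul]
    refine dX_of_ne h (fun e => ?_) fun e => ?_
    · rcases fst_eq e with e | e
      · exact h1 e
      · exact h4 e
    · rcases fst_eq e with e | e
      · exact h3 e
      · exact h2 e

theorem neg_neg' (x : Fin n × Bool) : neg (neg x) = x := ng_ng x

/-- the eigenvalues determine `x` -/
theorem eq_of_ch {x y z : Fin n × Bool} {t : F} (ht0 : t ≠ 0) (ht2 : t ^ 2 ≠ 1) (htσ : t * H.σ t ≠ 1)
    (h : ch H x y t z = t) : z = x ∨ z = y := by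
  have h5 : H.σ t ≠ 0 := by simpa using ht0
  unfold ch at h
  split_ifs at h with h1 h2 h3 h4
  · exact Or.inl h1
  · exfalso
    apply ht2
    rw [pow_two]
    nth_rw 1 [← h]
    exact inv_mul_cancel₀ ht0
  · exact Or.inr h3
  · exfalso
    apply htσ
    nth_rw 1 [← h]
    exact inv_mul_cancel₀ h5
  · exact absurd (by rw [← h, one_pow]) ht2

/-- a value shared by a pair of opposite vectors -/
theorem ch_pair {x y z : Fin n × Bool} (hxy : x.1 ≠ y.1) {t c : F} (ht0 : t ≠ 0) (htσ : t * H.σ t ≠ 1)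
    (h1 : ch H x y t z = c) (h2 : ch H x y t (neg z) = c) : c = 1 := by
  have h5 : H.σ t ≠ 0 := by simpa using ht0
  have hx : x ≠ neg y := fun h => hxy (by rw [h]; rfl)
  have hx' : x ≠ y := fun h => hxy (by rw [h])
  have hn : ∀ a : Fin n × Bool, neg a ≠ a := fun a h => (ne_neg_self a) h.symm
  have hnn : ∀ a b : Fin n × Bool, neg a = neg b ↔ a = b := fun a b =>
    ⟨fun h => by rw [← neg_neg' a, h, neg_neg'], fun h => by rw [h]⟩
  have hny : neg x ≠ y := fun h => hx (by rw [← h, neg_neg'])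
  have e1 : ch H x y t x = t := by unfold ch; rw [if_pos rfl]
  have e2 : ch H x y t (neg y) = t⁻¹ := by
    unfold ch; rw [if_neg (Ne.symm hx), if_pos rfl]
  have e3 : ch H x y t y = H.σ t := by
    unfold ch; rw [if_neg (Ne.symm hx'), if_neg (Ne.symm (hn y)), if_pos rfl]
  have e4 : ch H x y t (neg x) = (H.σ t)⁻¹ := by
    unfold ch
    rw [if_neg (hn x), if_neg (fun h => hx' ((hnn x y).1 h)), if_neg hny, if_pos rfl]
  by_cases k1 : z = x
  · subst k1
    rw [e1] at h1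
    rw [e4] at h2
    exact absurd ((mul_eq_one_iff_eq_inv₀ h5).2 (h1.trans h2.symm)) htσ
  by_cases k2 : z = neg y
  · subst k2
    rw [e2] at h1
    rw [neg_neg', e3] at h2
    exact absurd (by rw [h2.trans h1.symm, mul_inv_cancel₀ ht0]) htσ
  by_cases k3 : z = y
  · subst k3
    rw [e3] at h1
    rw [e2] at h2
    exact absurd (by rw [h1.trans h2.symm, mul_inv_cancel₀ ht0]) htσ
  by_cases k4 : z = neg x
  · subst k4
    rw [e4] at h1
    rw [neg_neg', e1] at h2
    exact absurd ((mul_eq_one_iff_eq_inv₀ h5).2 (h2.trans h1.symm)) htσ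
  rw [← h1]
  unfold ch
  rw [if_neg k1, if_neg k2, if_neg k3, if_neg k4]

/-- the product over a pair of opposite vectors and the others, `n = 2` -/
theorem ch_pow {x y : Fin n × Bool} (hxy : x.1 ≠ y.1) {t : F} (ht0 : t ≠ 0) : ∏ z, ch H x y t z = 1 := by
  have h5 : H.σ t ≠ 0 := by simpa using ht0
  have hx : x ≠ neg y := fun h => hxy (by rw [h]; rfl)
  have hx' : x ≠ y := fun h => hxy (by rw [h])
  have hn : ∀ a : Fin n × Bool, neg a ≠ a := fun a h => (ne_neg_self a) h.symm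
  have hnn : ∀ a b : Fin n × Bool, neg a = neg b ↔ a = b := fun a b =>
    ⟨fun h => by rw [← neg_neg' a, h, neg_neg'], fun h => by rw [h]⟩
  have hny : neg x ≠ y := fun h => hx (by rw [← h, neg_neg'])
  have key : ∀ z, ch H x y t z = ((if z = x then t else 1) * (if z = neg y then t⁻¹ else 1)) *
      ((if z = y then H.σ t else 1) * (if z = neg x then (H.σ t)⁻¹ else 1)) := by
    intro z
    unfold ch
    by_cases k1 : z = x
    · subst k1
      rw [if_pos rfl, if_pos rfl, if_neg hx, if_neg hx', if_neg (Ne.symm (hn z))]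
      ring
    by_cases k2 : z = neg y
    · subst k2
      rw [if_neg (Ne.symm hx), if_pos rfl, if_neg (Ne.symm hx), if_pos rfl, if_neg (hn y),
        if_neg (fun h => hx' ((hnn y x).1 h).symm)]
      ring
    by_cases k3 : z = y
    · subst k3
      rw [if_neg (Ne.symm hx'), if_neg (Ne.symm (hn z)), if_pos rfl, if_neg (Ne.symm hx'), if_neg (Ne.symm (hn z)),
        if_pos rfl, if_neg (Ne.symm hny)]
      ring
    by_cases k4 : z = neg x
    · subst k4
      rw [if_neg k1, if_neg k2, if_neg k3, if_pos rfl, if_neg k1, if_neg k2, if_neg k3]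
      ring
    rw [if_neg k1, if_neg k2, if_neg k3, if_neg k4, if_neg k1, if_neg k2, if_neg k3]
    ring
  rw [Finset.prod_congr rfl fun z _ => key z, Finset.prod_mul_distrib, Finset.prod_mul_distrib, Finset.prod_mul_distrib,
    Finset.prod_ite_eq' Finset.univ x, Finset.prod_ite_eq' Finset.univ (neg y), Finset.prod_ite_eq' Finset.univ y,
    Finset.prod_ite_eq' Finset.univ (neg x)]
  simp only [Finset.mem_univ, if_true]
  rw [mul_inv_cancel₀ ht0, mul_inv_cancel₀ h5, one_mul]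

theorem ch_pow_eq (x y z : Fin n × Bool) {t : F} {N : ℕ} (hN : t ^ N = 1) : ch H x y t z ^ N = 1 := by
  unfold ch
  split_ifs
  · exact hN
  · rw [inv_pow, hN, inv_one]
  · rw [← map_pow, hN, map_one]
  · rw [inv_pow, ← map_pow, hN, map_one, inv_one]
  · exact one_pow N

theorem ch_ne_zero (x y z : Fin n × Bool) {t : F} (ht0 : t ≠ 0) : ch H x y t z ≠ 0 := by
  have h5 : H.σ t ≠ 0 := by simpa using ht0
  unfold ch
  split_ifs
  · exact ht0
  · exact inv_ne_zero ht0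
  · exact h5
  · exact inv_ne_zero h5
  · exact one_ne_zero

section model

variable {K : Type*} [Group K] (M : Model Fr K) {p : ℕ}

/-- elements of `K` commuting: the commutator is a scalar -/
theorem comm_scalar {g k : V ≃ₗ[F] V} (hg : g ∈ M.I) (hk : k ∈ M.I)
    (hc : M.φ ⟨k, hk⟩ * M.φ ⟨g, hg⟩ = M.φ ⟨g, hg⟩ * M.φ ⟨k, hk⟩) : ∃ c : F, ∀ v, k (g v) = c • g (k v) := by
  let z : M.I := (⟨g, hg⟩ * ⟨k, hk⟩)⁻¹ * (⟨k, hk⟩ * ⟨g, hg⟩)
  have hz : M.φ z = 1 := by
    rw [map_mul, map_inv, map_mul, map_mul, hc, inv_mul_cancel]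
  have hs : ∀ v, ∃ a : F, z.1 v = a • v := fun v => M.ker v z hz
  obtain ⟨c, hc'⟩ := LinearMap.exists_eq_smul_id_of_forall_notLinearIndependent (R := F)
    (f := (z.1 : V →ₗ[F] V)) (by
      intro v hli
      obtain ⟨a, ha⟩ := hs v
      rw [LinearIndependent.pair_iff] at hli
      have h1 := hli a (-1) (by
        rw [neg_smul, one_smul]
        change a • v + -(z.1 v) = 0
        rw [ha, add_neg_cancel])
      exact absurd h1.2 (by simp))
  refine ⟨c, fun v => ?_⟩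
  have h1 : k * g = g * k * z.1 := by
    change k * g = g * k * ((g * k)⁻¹ * (k * g))
    group
  have h2 : z.1 v = c • v := by
    have := congrArg (fun f : V →ₗ[F] V => f v) hc'
    exact this
  change (k * g) v = _
  rw [h1, mul_apply', h2, map_smul]
  rfl

/-- representatives are monomial -/
theorem exists_rep (hA : AmbT Fr p M.I) [Finite V] [Fact p.Prime] [CharP F p] {p0 : Fr.Adm} (hp0 : p0.c ≠ 0)
    {W : Type*} [Group W] (cs : CoxeterSystem (CoxeterMatrix.B n) W) (w : W) :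
    ∃ (g : V ≃ₗ[F] V) (hg : g ∈ M.I) (π ρ : Fin n × Bool → Fin n × Bool),
    Rp cs (rgdC_model M hA hp0 cs).nsys w (M.φ ⟨g, hg⟩) ∧ Mono Fr g π ∧ (∀ x, π (ρ x) = x) ∧ (∀ x, ρ (π x) = x) ∧
      (∀ x, π (neg x) = neg (π x)) ∧
      ∀ x a b, ee x = wt a + wt b → ee (rep cs (isCartan n) w x) = wt (π a) + wt (π b) := by
  induction w using cs.simple_induction_left with
  | one =>
    refine ⟨1, one_mem _, id, id, ?_, Mono.one, fun _ => rfl, fun _ => rfl, fun _ => rfl, fun x a b e => by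
      rw [map_one]; exact e⟩
    have h1 : M.φ ⟨1, one_mem _⟩ = 1 := map_one M.φ
    rw [h1]
    exact rp_one
  | mul_simple_left w i ih =>
    obtain ⟨g, hg, π, ρ, h1, h2, h3, h4, h4', h5⟩ := ih
    refine ⟨nn Fr p0 i * g, mul_mem (nn_mem hA p0 i) hg, fun x => sg i (π x), fun x => ρ (sg i x), ?_,
      (mono_nn hp0 i).mul h2, fun x => by
        change sg i (π (ρ (sg i x))) = x
        rw [h3, sg_sg], fun x => by
        change ρ (sg i (sg i (π x))) = x
        rw [sg_sg, h4], fun x => ?_, fun x a b e => ?_⟩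
    · have h6 := (rp_simple cs (rgdC_model M hA hp0 cs).nsys i).mul h1
      rw [← map_mul] at h6
      exact h6
    · change sg i (π (neg x)) = neg (sg i (π x))
      rw [h4']
      exact sg_ng i (π x)
    · rw [map_mul, Module.End.mul_apply, rep_simple]
      exact ee_refl_of (h5 x a b e)

/-- **an element of the normalizer commuting with the diagonal elements is in the torus** -/
theorem eq_one_of_comm (hA : AmbT Fr p M.I) [Finite V] [Fact p.Prime] [CharP F p] {p0 : Fr.Adm} (hp0 : p0.c ≠ 0)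
    {W : Type*} [Group W] (cs : CoxeterSystem (CoxeterMatrix.B n) W) (hn : 2 ≤ n) {ℓ k : ℕ} (hℓ : Odd ℓ) {t : F}
    (ht0 : t ≠ 0) (ht : t ^ ℓ ^ k = 1) (ht2 : t ^ 2 ≠ 1) (htσ : t * H.σ t ≠ 1) {w : W} {y : K}
    (hy : Rp cs (rgdC_model M hA hp0 cs).nsys w y)
    (hc : ∀ a b : Fin n × Bool, a.1 ≠ b.1 → M.φ ⟨dX Fr a b t, dX_mem M hA a b t⟩ * y =
      y * M.φ ⟨dX Fr a b t, dX_mem M hA a b t⟩) : w = 1 := by
  obtain ⟨g, hg, π, ρ, h1, h2, h3, h4, h4', h5⟩ := exists_rep M hA hp0 cs w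
  have h6 := h1.unique hy
  obtain ⟨⟨s, hsI⟩, hs, hs1⟩ := h6
  have hs2 : s ∈ Tor Fr M.I := hs
  have hy1 : y = M.φ ⟨g * s, mul_mem hg hsI⟩ := by
    have h7 : M.φ ⟨g * s, mul_mem hg hsI⟩ = M.φ ⟨g, hg⟩ * M.φ ⟨s, hsI⟩ := by rw [← map_mul]; rfl
    rw [h7, hs1]
    group
  have hmono : Mono Fr (g * s) π := h2.mul hs2.2
  -- the scalars
  have hsc : ∀ a b : Fin n × Bool, a.1 ≠ b.1 → ∃ c : F, ∀ v, dX Fr a b t ((g * s) v) = c • (g * s) (dX Fr a b t v) := by
    intro a b hab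
    refine comm_scalar M (mul_mem hg hsI) (dX_mem M hA a b t) ?_
    rw [← hy1]
    exact hc a b hab
  have hch : ∀ a b : Fin n × Bool, a.1 ≠ b.1 → ∃ c : F, (∀ z, ch H a b t (π z) = c * ch H a b t z) ∧
      ∀ v, dX Fr a b t ((g * s) v) = c • (g * s) (dX Fr a b t v) := by
    intro a b hab
    obtain ⟨c, hc⟩ := hsc a b hab
    refine ⟨c, fun z => ?_, hc⟩
    obtain ⟨l, hl, e⟩ := hmono z
    have h7 := hc (Fr.b z)
    rw [e, dX_ch hab ht0, map_smul, dX_ch hab ht0, map_smul, e, smul_smul, smul_smul, smul_smul] at h7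
    have h8 : (l * ch H a b t (π z) - c * ch H a b t z * l) • Fr.b (π z) = 0 := by
      rw [sub_smul, h7, sub_self]
    have h9 := (smul_eq_zero.1 h8).resolve_right (b_ne_zero (π z))
    have h10 : l * (ch H a b t (π z) - c * ch H a b t z) = 0 := by linear_combination h9
    exact sub_eq_zero.1 ((mul_eq_zero.1 h10).resolve_left hl)
  -- the scalars are one
  have hone : ∀ a b : Fin n × Bool, a.1 ≠ b.1 → ∀ z, ch H a b t (π z) = ch H a b t z := by
    intro a b hab
    obtain ⟨c, hc, hcv⟩ := hch a b hab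
    suffices hc1 : c = 1 by
      intro z
      rw [hc, hc1, one_mul]
    by_cases hn3 : 3 ≤ n
    · obtain ⟨i, hi⟩ : ∃ i : Fin n, i ∉ ({a.1, b.1} : Finset (Fin n)) := by
        by_contra hcon
        push Not at hcon
        have h7 : (Finset.univ : Finset (Fin n)).card ≤ ({a.1, b.1} : Finset (Fin n)).card :=
          Finset.card_le_card fun i _ => hcon i
        rw [Finset.card_univ, Fintype.card_fin] at h7
        have h8 := Finset.card_le_two (a := a.1) (b := b.1)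
        omega
      rw [Finset.mem_insert, Finset.mem_singleton, not_or] at hi
      have hz : ∀ e, ch H a b t (i, e) = 1 := by
        intro e
        unfold ch
        rw [if_neg, if_neg, if_neg, if_neg]
        · exact fun h => hi.1 (congrArg Prod.fst h)
        · exact fun h => hi.2 (congrArg Prod.fst h)
        · exact fun h => hi.2 (congrArg Prod.fst h)
        · exact fun h => hi.1 (congrArg Prod.fst h)
      refine ch_pair hab ht0 htσ (z := π (i, true)) ?_ ?_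
      · rw [hc, hz, mul_one]
      · rw [← h4', hc]
        change c * ch H a b t (i, false) = c
        rw [hz, mul_one]
    · -- the product
      have hn2 : n = 2 := by omega
      have hπ : Function.Bijective π := ⟨fun u v h => by rw [← h4 u, ← h4 v, h], fun u => ⟨ρ u, h3 u⟩⟩
      have h7 : ∏ z, ch H a b t (π z) = ∏ z, ch H a b t z := hπ.prod_comp (fun z => ch H a b t z)
      have h8 : c ^ 4 = 1 := by
        rw [Finset.prod_congr rfl fun z _ => hc z, Finset.prod_mul_distrib, ch_pow hab ht0, mul_one, Finset.prod_const,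
          Finset.card_univ, Fintype.card_prod, Fintype.card_fin, Fintype.card_bool, hn2] at h7
        exact h7
      have h9 : c ^ ℓ ^ k = 1 := by
        have h10 := hc a
        have h11 := ch_pow_eq (H := H) a b (π a) ht
        have h12 := ch_pow_eq (H := H) a b a ht
        rw [h10, mul_pow, h12, mul_one] at h11
        exact h11
      have h10 : Nat.Coprime 4 (ℓ ^ k) := by
        refine Nat.Coprime.pow_right k ?_
        have h13 : Nat.Coprime 2 ℓ := (Nat.coprime_two_left).2 hℓ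
        exact Nat.Coprime.pow_left 2 h13
      have h11 := orderOf_dvd_of_pow_eq_one h8
      have h12 := orderOf_dvd_of_pow_eq_one h9
      exact orderOf_eq_one_iff.1 (Nat.eq_one_of_dvd_coprimes h10 h11 h12)
  -- `π = 1`
  have hπ : ∀ z, π z = z := by
    intro z
    obtain ⟨i, hi⟩ : ∃ i : Fin n, z.1 ≠ i := by
      by_contra hcon
      push Not at hcon
      have h7 := hcon ⟨0, by omega⟩
      have h8 := hcon ⟨1, by omega⟩
      rw [h7] at h8
      simp [Fin.ext_iff] at h8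
    have h7 : ∀ e : Bool, ch H z (i, e) t z = t := fun e => by unfold ch; rw [if_pos rfl]
    have h8 : ∀ e : Bool, π z = z ∨ π z = (i, e) := fun e =>
      eq_of_ch ht0 ht2 htσ (by rw [hone z (i, e) hi, h7])
    rcases h8 true with h9 | h9
    · exact h9
    · rcases h8 false with h10 | h10
      · exact h10
      · rw [h9] at h10
        simp at h10
  refine eq_one_of_fix cs (isCartan n) w fun i => ee_injective ?_
  have h7 := h5 (sr i) (i, true) (nx i) (ee_sr i)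
  rw [hπ, hπ] at h7
  exact h7.trans (ee_sr i).symm

/-! ### the subgroup of the torus -/

variable (Fr) in
/-- the torus elements fixing `V0` -/
def T0 (G0 : Subgroup (V ≃ₗ[F] V)) : Subgroup (V ≃ₗ[F] V) where
  carrier := {g | g ∈ Tor Fr G0 ∧ ∀ w ∈ Fr.V0, g w = w}
  one_mem' := ⟨one_mem _, fun _ _ => rfl⟩
  mul_mem' := fun ⟨h1, h2⟩ ⟨h3, h4⟩ => ⟨mul_mem h1 h3, fun w hw => by rw [mul_apply', h4 w hw, h2 w hw]⟩
  inv_mem' := fun ⟨h1, h2⟩ => ⟨inv_mem h1, fun w hw => inv_apply_eq (h2 w hw)⟩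

theorem T0_comm (hV : ∀ v, (∀ x, H.h v (Fr.b x) = 0) → v ∈ Fr.V0) {G0 : Subgroup (V ≃ₗ[F] V)} {g k : V ≃ₗ[F] V}
    (hg : g ∈ T0 Fr G0) (hk : k ∈ T0 Fr G0) : g * k = k * g := by
  rw [← mul_inv_eq_one]
  refine H716.RGDAb.eq_one_of_fix hV (fun x => ?_) fun w hw => ?_
  · obtain ⟨l, -, hl⟩ := hg.1.2 x
    obtain ⟨m, -, hm⟩ := hk.1.2 x
    rw [id] at hl hm
    have h2 : (k * g) (Fr.b x) = (g * k) (Fr.b x) := by
      rw [mul_apply', mul_apply', hl, hm, map_smul, map_smul, hl, hm, smul_smul, smul_smul, mul_comm]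
    have h3 : (k * g)⁻¹ ((k * g) (Fr.b x)) = Fr.b x := inv_apply_eq rfl
    -- `(g k) (k g)⁻¹ b_x`
    have h4 : ∃ a : F, a ≠ 0 ∧ (k * g) (Fr.b x) = a • Fr.b x := by
      obtain ⟨l, hl0, hl⟩ := hg.1.2 x
      obtain ⟨m, hm0, hm⟩ := hk.1.2 x
      rw [id] at hl hm
      exact ⟨l * m, mul_ne_zero hl0 hm0, by rw [mul_apply', hl, map_smul, hm, smul_smul]⟩
    obtain ⟨a, ha, e⟩ := h4
    have h5 : (k * g)⁻¹ (Fr.b x) = a⁻¹ • Fr.b x := inv_apply_eq (by
      rw [map_smul, e, smul_smul, inv_mul_cancel₀ ha, one_smul])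
    rw [mul_apply', h5, map_smul, ← h2, e, smul_smul, inv_mul_cancel₀ ha, one_smul]
  · have h1 : (k * g)⁻¹ w = w := inv_apply_eq (by rw [mul_apply', hg.2 w hw, hk.2 w hw])
    rw [mul_apply', h1, mul_apply', hk.2 w hw, hg.2 w hw]

theorem dX_mem_T0 (hA : AmbT Fr p M.I) {x y : Fin n × Bool} (h : x.1 ≠ y.1) {t : F} (ht : t ≠ 0) :
    dX Fr x y t ∈ T0 Fr M.I := ⟨dX_mem_Tor M hA h ht, fun _ hw => dX_V0 h hw⟩

theorem T0_conj (hA : AmbT Fr p M.I) {p0 : Fr.Adm} (hp0 : p0.c ≠ 0) (i : Fin n) {g : V ≃ₗ[F] V}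
    (hg : g ∈ T0 Fr M.I) : nn Fr p0 i * g * (nn Fr p0 i)⁻¹ ∈ T0 Fr M.I := by
  refine ⟨(Subgroup.mem_normalizer_iff.1 ((nsysC hA hp0).norm i) g).1 hg.1, fun w hw => ?_⟩
  have h1 : (nn Fr p0 i)⁻¹ w ∈ Fr.V0 :=
    hA.map_V0 (inv_mem (nn_mem hA p0 i)) ((mono_nn hp0 i).inv (fun x => sg_sg i x)) (ρ := sg i)
      (fun x => sg_sg i x) hw
  rw [mul_apply', mul_apply', hg.2 _ h1, ← mul_apply', mul_inv_cancel]
  rfl

/-- **A subgroup of the torus without fixed points on `U`.** -/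
theorem exists_QC' (hA : AmbT Fr p M.I) [Finite V] [Fact p.Prime] [CharP F p] {p0 : Fr.Adm} (hp0 : p0.c ≠ 0)
    {W : Type*} [Group W] (cs : CoxeterSystem (CoxeterMatrix.B n) W) (hn : 2 ≤ n)
    {ℓ k : ℕ} {t : F} (ht0 : t ≠ 0) (ht : t ^ ℓ ^ k = 1)
    (ht2 : t ^ 2 ≠ 1) (htσ : t * H.σ t ≠ 1) :
    ∃ Q : Subgroup K, IsPGroup ℓ Q ∧ Q ≤ WittModel.T M ∧
      (∀ a b : Fin n × Bool, a.1 ≠ b.1 → M.φ ⟨dX Fr a b t, dX_mem M hA a b t⟩ ∈ Q) ∧
      ∀ u ∈ RGD.Sup (WittModel.X M) (RGD.Pos cs (isCartan n)), (∀ q ∈ Q, q * u = u * q) → u = 1 := by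
  have : Finite W := finite_W cs
  have R := rgdC_model M hA hp0 cs
  have hcomm : ∀ a ∈ ((T0 Fr M.I).subgroupOf M.I).map M.φ, ∀ b ∈ ((T0 Fr M.I).subgroupOf M.I).map M.φ,
      a * b = b * a := by
    rintro _ ⟨a, ha, rfl⟩ _ ⟨b, hb, rfl⟩
    rw [← map_mul, ← map_mul]
    congr 1
    exact Subtype.ext (T0_comm hA.V0 ha hb)
  have hle : ((T0 Fr M.I).subgroupOf M.I).map M.φ ≤ WittModel.T M := by
    rintro _ ⟨a, ha, rfl⟩
    have ha' : a.1 ∈ T0 Fr M.I := ha
    exact Subgroup.mem_map_of_mem _ (Subgroup.mem_subgroupOf.2 ha'.1)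
  let Q : Subgroup K :=
    { carrier := {x | x ∈ ((T0 Fr M.I).subgroupOf M.I).map M.φ ∧ x ^ ℓ ^ k = 1}
      mul_mem' := by
        rintro a b ⟨ha, ha1⟩ ⟨hb, hb1⟩
        refine ⟨mul_mem ha hb, ?_⟩
        rw [(show Commute a b from hcomm a ha b hb).mul_pow, ha1, hb1, one_mul]
      one_mem' := ⟨one_mem _, one_pow _⟩
      inv_mem' := by
        rintro a ⟨ha, ha1⟩
        exact ⟨inv_mem ha, by rw [inv_pow, ha1, inv_one]⟩ }
  have hQ : ∀ x, x ∈ Q ↔ x ∈ ((T0 Fr M.I).subgroupOf M.I).map M.φ ∧ x ^ ℓ ^ k = 1 := fun _ => Iff.rfl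
  have hmem : ∀ {x y : Fin n × Bool}, x.1 ≠ y.1 → M.φ ⟨dX Fr x y t, dX_mem M hA x y t⟩ ∈ Q := by
    intro x y h
    refine ⟨Subgroup.mem_map_of_mem _ (Subgroup.mem_subgroupOf.2 (dX_mem_T0 M hA h ht0)), ?_⟩
    rw [← map_pow]
    have : (⟨dX Fr x y t, dX_mem M hA x y t⟩ : M.I) ^ ℓ ^ k = 1 := Subtype.ext (dX_pow hA.V0 h ht0 ht)
    rw [this, map_one]
  refine ⟨Q, ?_, fun x hx => hle hx.1, fun a b h => hmem h,
    H40.GGR.cent_U_of_simple R Q (fun x hx => hle hx.1) ?_ ?_⟩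
  · intro x
    exact ⟨k, Subtype.ext x.2.2⟩
  · intro i q hq
    obtain ⟨⟨a, ha, rfl⟩, h2⟩ := (hQ q).1 hq
    have ha' : a.1 ∈ T0 Fr M.I := ha
    refine (hQ _).2 ⟨?_, ?_⟩
    · rw [← map_inv, ← map_mul, ← map_mul]
      exact Subgroup.mem_map_of_mem _ (Subgroup.mem_subgroupOf.2 (T0_conj M hA hp0 i ha'))
    · rw [conj_pow, h2, mul_one, mul_inv_cancel]
  · intro i u hu hc
    obtain ⟨g, hg, h1, rfl⟩ := (WittModel.mem_X M).1 hu
    by_cases hi : (i : ℕ) + 1 < n
    · have hnx : nx i = (⟨(i : ℕ) + 1, hi⟩, false) := by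
        unfold nx; rw [dif_pos hi]
      have hne : ((i, true) : Fin n × Bool).1 ≠ (nx i).1 := by
        rw [hnx]
        intro h
        have := congrArg Fin.val h
        simp at this
      rw [rg_sr, PG_ne Fr hne] at h1
      obtain ⟨s, rfl⟩ := h1
      have h2 := fpf_X M hA hne ht0 ht2 (hc _ (hmem hne))
      subst h2
      have h3 : (⟨Fr.X (i, true) (nx i) 0, hg⟩ : M.I) = 1 := Subtype.ext (Fr.X_zero _ _)
      rw [h3, map_one]
    · have hnx : nx i = (i, true) := by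
        unfold nx; rw [dif_neg hi]
      rw [rg_sr, hnx, PG_self] at h1
      obtain ⟨a, rfl⟩ := h1
      have hne : ((⟨(i : ℕ) - 1, by omega⟩, true) : Fin n × Bool).1 ≠ ((i, false) : Fin n × Bool).1 := by
        intro h
        have := congrArg Fin.val h
        simp at this
        omega
      have e : neg ((i, false) : Fin n × Bool) = (i, true) := rfl
      have h2 := fpf_Z M hA hne ht0 htσ (fun h => ht2 (by rw [h, one_pow])) (a := a) (hc _ (hmem hne))
      subst h2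
      have h3 : (⟨Fr.Z (i, true) 1, hg⟩ : M.I) = 1 := Subtype.ext (Fr.Z_one _)
      rw [h3, map_one]

end model

/-- **The row for the models of Witt frames.** -/
theorem rowInt_of_model {K : Type*} [Group K] [Finite K] (M : Model Fr K) {r : ℕ} (hA : AmbT Fr r M.I) [Finite V]
    [Fact r.Prime] [CharP F r] {p0 : Fr.Adm} (hp0 : p0.c ≠ 0) (hn : 2 ≤ n) {p k : ℕ} [hp : Fact p.Prime] (hp2 : p ≠ 2)
    (hpr : p ≠ r) {t : F} (ht0 : t ≠ 0) (ht : t ^ p ^ k = 1) (ht2 : t ^ 2 ≠ 1) (htσ : t * H.σ t ≠ 1) :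
    RowInt p K := by
  let cs := (CoxeterMatrix.B n).toCoxeterSystem
  have : Finite (CoxeterMatrix.B n).Group := finite_W cs
  have R := rgdC_model M hA hp0 cs
  have : Nonempty (Fin n) := ⟨⟨0, by omega⟩⟩
  obtain ⟨Q, h1, h2, h3, h4⟩ := exists_QC' M hA hp0 cs hn ht0 ht ht2 htσ
  refine H116.RatB0.rowInt_of_cent (rgdC_model M hA hp0 cs)
    (KFacts.RgdFilt.GG_eq_top (WittModel.G1_eq_top M (by omega) cs)) hpr h1 h2
    (fun x hx hx0 u hu => h4 u (RGD.le_Sup (S := RGD.Pos cs (isCartan n)) ⟨hx, hx0⟩ hu)) fun w y hy hc => ?_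
  exact eq_one_of_comm M hA hp0 cs hn (hp.out.odd_of_ne_two hp2) ht0 ht ht2 htσ hy fun a b hab => hc _ (h3 a b hab)

end Cfsg.Agent.H484.RatB0
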